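import Groth.Agent.GenericFinite.Basic

/-!
Generically finite dominant morphisms of integral schemes.
-/

set_option autoImplicit false
set_option linter.style.haveILetI false
set_option backward.isDefEq.respectTransparency false
universe u

open CategoryTheory AlgebraicGeometry TopologicalSpace

namespace Groth.Agent.GenericFinite2

variable {X Y : Scheme.{u}} (f : X ⟶ Y)

/-- Restrictions of finite restrictions. -/
lemma isFinite_resLE_image {U : X.Opens} {V : Y.Opens} (hle : U ≤ f ⁻¹ᵁ V) (W : V.toScheme.Opens)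
    (h : IsFinite ((f.resLE V U hle) ∣_ W)) (U' : X.Opens) (V' : Y.Opens)
    (hU : U' = U.ι ''ᵁ ((f.resLE V U hle) ⁻¹ᵁ W)) (hV : V' = V.ι ''ᵁ W) (hle' : U' ≤ f ⁻¹ᵁ V') :
    IsFinite (f.resLE V' U' hle') := by
  subst hU hV
  have e : f.resLE (V.ι ''ᵁ W) (U.ι ''ᵁ ((f.resLE V U hle) ⁻¹ᵁ W)) hle' =
      (U.ι.isoImage _).inv ≫ ((f.resLE V U hle) ∣_ W) ≫ (V.ι.isoImage W).hom := by
    rw [Iso.eq_inv_comp, ← cancel_mono (V.ι ''ᵁ W).ι, Category.assoc, Category.assoc,
      Scheme.Hom.resLE_comp_ι, Scheme.Hom.isoImage_hom_ι, Scheme.Hom.isoImage_hom_ι_assoc,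
      morphismRestrict_ι_assoc, Scheme.Hom.resLE_comp_ι]
  rw [e]
  infer_instance

/-- If the preimage of `V'` lies in an open finite over `V`, then `f` is finite over `V'`. -/
lemma isFinite_morphismRestrict {U : X.Opens} {V : Y.Opens} (hle : U ≤ f ⁻¹ᵁ V)
    (h : IsFinite (f.resLE V U hle)) (V' : Y.Opens) (hV : V' ≤ V) (hU : f ⁻¹ᵁ V' ≤ U) :
    IsFinite (f ∣_ V') := by
  rw [← Scheme.Hom.resLE_eq_morphismRestrict]
  refine isFinite_resLE_image f hle (V.ι ⁻¹ᵁ V') (IsZariskiLocalAtTarget.restrict h _) _ _ ?_ ?_ _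
  · ext x
    constructor
    · intro hx
      refine ⟨⟨x, hU hx⟩, ?_, rfl⟩
      show V.ι (f.resLE V U hle ⟨x, hU hx⟩) ∈ V'
      rw [← Scheme.Hom.comp_apply, Scheme.Hom.resLE_comp_ι]
      exact hx
    · rintro ⟨p, hp, rfl⟩
      change V.ι (f.resLE V U hle p) ∈ V' at hp
      rw [← Scheme.Hom.comp_apply, Scheme.Hom.resLE_comp_ι] at hp
      exact hp
  · rw [Scheme.Hom.image_preimage_eq_opensRange_inf, Scheme.Opens.opensRange_ι]
    exact (inf_eq_right.2 hV).symm

variable [IsIntegral X] [IsIntegral Y]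

lemma finite_residueFieldMap_iff [LocallyOfFiniteType f] (hξ : f (genericPoint X) = genericPoint Y) :
    (f.residueFieldMap (genericPoint X)).hom.Finite ↔ f.QuasiFiniteAt (genericPoint X) := by
  have hX : Function.Bijective (X.residue (genericPoint X)).hom :=
    ⟨RingHom.injective (IsLocalRing.residue X.functionField), X.residue_surjective _⟩
  have hY : Function.Bijective (Y.residue (f (genericPoint X))).hom := by
    have key : ∀ z : Y, z = genericPoint Y → Function.Bijective (Y.residue z).hom := by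
      rintro z rfl
      exact ⟨RingHom.injective (IsLocalRing.residue Y.functionField), Y.residue_surjective _⟩
    exact key _ hξ
  have hcomm : (f.residueFieldMap (genericPoint X)).hom.comp (Y.residue (f (genericPoint X))).hom =
      (X.residue (genericPoint X)).hom.comp (f.stalkMap (genericPoint X)).hom :=
    congrArg CommRingCat.Hom.hom (Scheme.residue_residueFieldMap f (genericPoint X))
  constructor
  · intro h
    refine RingHom.QuasiFinite.of_finite ?_
    let e := RingEquiv.ofBijective _ hX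
    have : (f.stalkMap (genericPoint X)).hom =
        e.symm.toRingHom.comp ((f.residueFieldMap (genericPoint X)).hom.comp (Y.residue (f (genericPoint X))).hom) := by
      rw [hcomm]
      ext a
      exact (e.symm_apply_apply _).symm
    rw [this]
    exact (RingHom.Finite.of_surjective _ e.symm.surjective).comp
      (h.comp (RingHom.Finite.of_surjective _ hY.2))
  · intro h
    have hfin : (f.stalkMap (genericPoint X)).hom.Finite := by
      have hF : IsField (Y.presheaf.stalk (f (genericPoint X))) := by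
        have key : ∀ z : Y, z = genericPoint Y → IsField (Y.presheaf.stalk z) := by
          rintro z rfl
          exact Field.toIsField Y.functionField
        exact key _ hξ
      letI := hF.toField
      algebraize [(f.stalkMap (genericPoint X)).hom]
      haveI : Algebra.QuasiFinite (Y.presheaf.stalk (f (genericPoint X))) (X.presheaf.stalk (genericPoint X)) := h
      exact Module.Finite.of_quasiFinite
    have h' : ((f.residueFieldMap (genericPoint X)).hom.comp (Y.residue (f (genericPoint X))).hom).Finite := by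
      rw [hcomm]
      exact (RingHom.Finite.of_surjective _ hX.2).comp hfin
    exact RingHom.Finite.of_comp_finite h'

lemma forall_eq_iff_quasiFiniteAt [LocallyOfFiniteType f] (hξ : f (genericPoint X) = genericPoint Y) :
    (∀ x : X, f x = genericPoint Y → x = genericPoint X) ↔ f.QuasiFiniteAt (genericPoint X) := by
  constructor
  · intro h
    refine GenericFinite.quasiFiniteAt_of_finite f ((Set.finite_singleton (genericPoint X)).subset fun x hx => ?_)
    exact h x ((Set.mem_singleton_iff.1 hx).trans hξ)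
  · intro h x hx
    obtain ⟨z, hz⟩ : x ∈ Set.range (f.fiberι (f (genericPoint X))) := by
      rw [f.range_fiberι]; exact hx.trans hξ.symm
    have hspec : f.asFiber (genericPoint X) ⤳ z := by
      rw [← (f.fiberι _).isEmbedding.isInducing.specializes_iff, f.fiberι_asFiber, hz]
      exact genericPoint_specializes x
    have hcl : IsClosed {f.asFiber (genericPoint X)} := h.isClopen_singleton_asFiber.1
    have hz' : z = f.asFiber (genericPoint X) := by
      have := specializes_iff_mem_closure.1 hspec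
      rwa [hcl.closure_eq] at this
    rw [← hz, hz', f.fiberι_asFiber]

/-- Criteria for generic finiteness. -/
theorem generic_finite_tfae [IsDominant f] [LocallyOfFiniteType f] :
    ((f.residueFieldMap (genericPoint X)).hom.Finite ↔
      ∃ (U : X.Opens) (V : Y.Opens) (hUV : U ≤ f ⁻¹ᵁ V), IsAffineOpen U ∧ IsAffineOpen V ∧
        Nonempty ↥U ∧ IsFinite (f.resLE V U hUV)) ∧
    ((f.residueFieldMap (genericPoint X)).hom.Finite ↔
      ∀ x : X, f.base x = genericPoint ↥Y → x = genericPoint X) ∧
    (IsSeparated f ∨ QuasiCompact f → ((f.residueFieldMap (genericPoint X)).hom.Finite ↔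
      ∃ V : Y.Opens, IsAffineOpen V ∧ Nonempty ↥V ∧ IsFinite (f ∣_ V))) := by
  have hξ : f (genericPoint X) = genericPoint Y := by
    have h : closure (Set.range f) ⊆ closure {f (genericPoint X)} := by
      refine closure_minimal ?_ isClosed_closure
      rintro _ ⟨a, rfl⟩
      exact specializes_iff_mem_closure.1 ((genericPoint_specializes a).map f.continuous)
    rw [f.denseRange.closure_range] at h
    exact ((specializes_iff_mem_closure.2 (h (Set.mem_univ (genericPoint Y)))).antisymm (genericPoint_specializes _)).eq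
  have hA := finite_residueFieldMap_iff f hξ
  have hC := forall_eq_iff_quasiFiniteAt f hξ
  have hηmem : ∀ V : Y.Opens, Nonempty ↥V → genericPoint Y ∈ V := fun V ⟨w⟩ =>
    (genericPoint_specializes w.1).mem_open V.2 w.2
  have hξmem : ∀ U : X.Opens, Nonempty ↥U → genericPoint X ∈ U := fun U ⟨w⟩ =>
    (genericPoint_specializes w.1).mem_open U.2 w.2
  have hBA : (∃ (U : X.Opens) (V : Y.Opens) (hUV : U ≤ f ⁻¹ᵁ V), IsAffineOpen U ∧ IsAffineOpen V ∧
      Nonempty ↥U ∧ IsFinite (f.resLE V U hUV)) → f.QuasiFiniteAt (genericPoint X) := by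
    rintro ⟨U, V, hUV, -, -, hne, hfin⟩
    haveI : LocallyQuasiFinite (U.ι ≫ f) := by
      rw [← Scheme.Hom.resLE_comp_ι f hUV]
      infer_instance
    have := (U.ι ≫ f).quasiFiniteAt ⟨genericPoint X, hξmem U hne⟩
    rw [Scheme.Hom.quasiFiniteAt_comp_iff_of_isOpenImmersion] at this
    exact this
  have hAB : f.QuasiFiniteAt (genericPoint X) → ∃ (U : X.Opens) (V : Y.Opens) (hUV : U ≤ f ⁻¹ᵁ V),
      IsAffineOpen U ∧ IsAffineOpen V ∧ Nonempty ↥U ∧ IsFinite (f.resLE V U hUV) := by
    intro hq
    obtain ⟨V, hV, hηV, -⟩ := exists_isAffineOpen_mem_and_subset (X := Y) (x := genericPoint Y) (U := ⊤) trivial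
    obtain ⟨U, hU, hξU, hUV⟩ := exists_isAffineOpen_mem_and_subset (X := X) (x := genericPoint X) (U := f ⁻¹ᵁ V)
      (show f (genericPoint X) ∈ V from hξ ▸ hηV)
    have hUV' : U ≤ f ⁻¹ᵁ V := hUV
    haveI : IsAffine U.toScheme := hU
    haveI : IsAffine V.toScheme := hV
    let g := f.resLE V U hUV'
    haveI : LocallyOfFiniteType g := by
      haveI : LocallyOfFiniteType (g ≫ V.ι) := by rw [Scheme.Hom.resLE_comp_ι]; infer_instance
      exact locallyOfFiniteType_of_comp g V.ι
    haveI : Nonempty V.toScheme := ⟨⟨_, hηV⟩⟩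
    haveI : IsIntegral V.toScheme := isIntegral_of_isOpenImmersion V.ι
    let η' : V.toScheme := ⟨genericPoint Y, hηV⟩
    have hη' : closure {η'} ∈ irreducibleComponents V.toScheme := GenericFinite.mem_components_of_forall
      fun a ha => Subtype.ext ((ha.map V.ι.continuous).antisymm (genericPoint_specializes _)).eq
    have hfinfib : (g ⁻¹' {η'}).Finite := by
      refine (Set.finite_singleton (⟨genericPoint X, hξU⟩ : U.toScheme)).subset fun p hp => ?_
      refine U.ι.isOpenEmbedding.injective (hC.2 hq (U.ι p) ?_)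
      have h2 : (g ≫ V.ι) p = genericPoint Y := congrArg V.ι (Set.mem_singleton_iff.1 hp)
      rw [Scheme.Hom.resLE_comp_ι] at h2
      exact h2
    obtain ⟨W, hW, hηW, hfin⟩ := (GenericFinite.finite_preimage_iff g η' hη').1 hfinfib
    have hle' : U.ι ''ᵁ (g ⁻¹ᵁ W) ≤ f ⁻¹ᵁ (V.ι ''ᵁ W) := by
      rintro _ ⟨p, hp, rfl⟩
      refine ⟨g p, hp, ?_⟩
      show (g ≫ V.ι) p = _
      rw [Scheme.Hom.resLE_comp_ι]; rfl
    have hfin' := isFinite_resLE_image f hUV' W hfin _ _ rfl rfl hle'
    have hV' : IsAffineOpen (V.ι ''ᵁ W) := hW.image_of_isOpenImmersion V.ι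
    refine ⟨_, _, hle', ?_, hV', ⟨⟨genericPoint X, ⟨⟨genericPoint X, hξU⟩, ?_, rfl⟩⟩⟩, hfin'⟩
    · haveI : IsAffine (V.ι ''ᵁ W).toScheme := hV'
      haveI := hfin'
      exact isAffine_of_isAffineHom (f.resLE _ _ hle')
    · show g ⟨genericPoint X, hξU⟩ ∈ W
      have : g ⟨genericPoint X, hξU⟩ = η' := by
        apply V.ι.isOpenEmbedding.injective
        show (g ≫ V.ι) ⟨genericPoint X, hξU⟩ = genericPoint Y
        rw [Scheme.Hom.resLE_comp_ι]
        exact hξ
      rw [this]; exact hηW
  refine ⟨hA.trans ⟨hAB, hBA⟩, hA.trans hC.symm, fun hsq => hA.trans ⟨fun hq => ?_, ?_⟩⟩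
  · obtain ⟨U, V, hUV, hU, hV, hne, hfin⟩ := hAB hq
    haveI := hfin
    have hηV : genericPoint Y ∈ V := hξ ▸ hUV (hξmem U hne)
    rcases hsq with hsep | hqc
    · refine ⟨V, hV, ⟨⟨_, hηV⟩⟩, isFinite_morphismRestrict f hUV hfin V le_rfl ?_⟩
      haveI : IsSeparated (f ∣_ V) := IsZariskiLocalAtTarget.restrict hsep V
      haveI : IsFinite (X.homOfLE hUV ≫ (f ∣_ V)) := by
        change IsFinite (f.resLE V U hUV); infer_instance
      haveI : IsProper (X.homOfLE hUV ≫ (f ∣_ V)) := inferInstance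
      haveI : IsProper (X.homOfLE hUV) := IsProper.of_comp (X.homOfLE hUV) (f ∣_ V)
      intro p hp
      by_contra hpU
      let O : Set X := (f ⁻¹ᵁ V).ι '' (Set.range (X.homOfLE hUV))ᶜ
      have hO : IsOpen O := (f ⁻¹ᵁ V).ι.isOpenEmbedding.isOpenMap _
        (X.homOfLE hUV).isClosedMap.isClosed_range.isOpen_compl
      have hpO : p ∈ O := ⟨⟨p, hp⟩, fun ⟨q, hq⟩ ↦ hpU (by
        have := congrArg (f ⁻¹ᵁ V).ι hq
        rw [← Scheme.Hom.comp_apply, Scheme.homOfLE_ι] at this
        have h2 : U.ι q = p := this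
        rw [← h2]; exact q.2), rfl⟩
      obtain ⟨⟨_, h'⟩, hq, hq'⟩ := (genericPoint_specializes p).mem_open hO hpO
      exact hq ⟨⟨_, hξmem U hne⟩, (f ⁻¹ᵁ V).ι.isOpenEmbedding.injective
        (by rw [← Scheme.Hom.comp_apply, Scheme.homOfLE_ι]; exact hq'.symm)⟩
    · obtain ⟨W, hW, hηW, hd⟩ := GenericFinite.exists_nhd_disjoint f
        (η := genericPoint Y) (fun a ha => (ha.antisymm (genericPoint_specializes a)).eq)
        (K := (U : Set X)ᶜ) U.2.isClosed_compl
        (fun x hx he => hx (by rw [hC.2 hq x he]; exact hξmem U hne))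
      obtain ⟨V', hV', hηV', hle⟩ := exists_isAffineOpen_mem_and_subset (X := Y) (x := genericPoint Y)
        (U := W ⊓ V) ⟨hηW, hηV⟩
      refine ⟨V', hV', ⟨⟨_, hηV'⟩⟩, isFinite_morphismRestrict f hUV hfin V' (fun z hz => (hle hz).2) ?_⟩
      intro x hx
      by_contra hxU
      exact hd x hxU (hle hx).1
  · rintro ⟨V, hV, hne, hfin⟩
    haveI := hfin
    haveI : IsAffine V.toScheme := hV
    refine hBA ⟨f ⁻¹ᵁ V, V, le_rfl, isAffine_of_isAffineHom (f ∣_ V), hV,
      ⟨⟨genericPoint X, show f (genericPoint X) ∈ V from hξ ▸ hηmem V hne⟩⟩, ?_⟩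
    rw [Scheme.Hom.resLE_eq_morphismRestrict]
    exact hfin

end Groth.Agent.GenericFinite2
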